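import Cfsg.Agent.Lib.RuAut.Invol.Main
import Cfsg.Agent.Lib.RuAut.Out.Main
import Cfsg.Agent.Lib.StdForm.DoubleCoverSeries

/-! A standard double cover of the Rudvalis group with cyclic Sylow 2-subgroups in its centralizer. -/

set_option autoImplicit false
set_option maxRecDepth 100000

namespace CfsgLib.RuAut.Standard

open Cfsg Cfsg.Spor CfsgLib CfsgLib.RuAut CfsgLib.RuAut.Mult CfsgLib.StdForm
open scoped commutatorElement

universe u

/-- The double cover is centrally closed. -/
def Closed : Prop :=
  ∀ (Γ : Type) [Group Γ] [Finite Γ] (σ : Γ →* coverGrp), Function.Surjective σ →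
    σ.ker ≤ Subgroup.center Γ → σ.ker ≤ commutator Γ → ∀ r : ℕ, r.Prime → ¬ r ∣ Nat.card σ.ker

theorem injective_of_closed (H : Closed) {E : Type u} [Group E] [Finite E] (p : E →* coverGrp)
    (hp : Function.Surjective p) (hc : p.ker ≤ Subgroup.center E) (hperf : commutator E = ⊤) :
    Function.Injective p := by
  classical
  obtain ⟨n, ⟨f⟩⟩ := Finite.exists_equiv_fin E
  let ι : E →* Equiv.Perm (Fin n) := f.permCongrHom.toMonoidHom.comp (MulAction.toPermHom E E)
  have hι : Function.Injective ι :=
    f.permCongrHom.injective.comp MulAction.toPerm_injective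
  let e : ↥ι.range ≃* E := (MonoidHom.ofInjective hι).symm
  have hinj : Function.Injective (p.comp e.toMonoidHom) := by
    rw [← MonoidHom.ker_eq_bot_iff, ← Subgroup.card_eq_one]
    by_contra hne
    obtain ⟨r, hr, hdvd⟩ := Nat.exists_prime_and_dvd hne
    refine H ↥ι.range (p.comp e.toMonoidHom) (hp.comp e.surjective) (fun x hx => ?_) ?_ r hr hdvd
    · rw [Subgroup.mem_center_iff]
      intro g
      exact e.injective (by rw [map_mul, map_mul]; exact Subgroup.mem_center_iff.1 (hc hx) (e g))
    · have : commutator ↥ι.range = ⊤ := by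
        apply Subgroup.map_injective (f := e.toMonoidHom) e.injective
        rw [commutator_def, Subgroup.map_commutator, Subgroup.map_top_of_surjective _ e.surjective,
          ← commutator_def, hperf]
      rw [this]; exact le_top
  intro a b h
  have := @hinj (e.symm a) (e.symm b) (by simpa using h)
  simpa using this

theorem normal_of_standard (H : Closed) {G : Type u} [Group G] [Finite G] (hO : Cfsg.oddCore G = ⊥)
    (A : Subgroup G) (hA : Cfsg.IsStandardSubgroup A) (hZ : Nat.card ↥(Subgroup.center ↥A) = 2)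
    (hAX : Cfsg.Spor.IsoRu (↥A ⧸ Subgroup.center ↥A))
    (hR : ∀ R : Sylow 2 ↥(Subgroup.centralizer (A : Set G)),
      IsCyclic ↥(R : Subgroup ↥(Subgroup.centralizer (A : Set G)))) : A.Normal := by
  classical
  obtain ⟨z, hs⟩ := DoubleCover.exists_setup hA hZ hR
  obtain ⟨e0⟩ := hAX
  haveI : Group.IsPerfect ↥A := hA.1.1
  have hperfA : commutator ↥A = ⊤ := Group.IsPerfect.commutator_eq_top
  let σA : ↥A →* Cfsg.Spor.Ru := e0.toMonoidHom.comp (QuotientGroup.mk' (Subgroup.center ↥A))
  have hσk : σA.ker = Subgroup.center ↥A := by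
    ext x
    simp [σA, MonoidHom.mem_ker, EmbeddingLike.map_eq_one_iff]
  -- transport the cover into the universe of the group
  let C := ULift.{u} ↥coverGrp
  let Q := ULift.{u} Cfsg.Spor.Ru
  let up : ↥coverGrp ≃* C := MulEquiv.ulift.symm
  let π : C →* Q := (MulEquiv.ulift.symm.toMonoidHom).comp (sigma.comp MulEquiv.ulift.toMonoidHom)
  let σA' : ↥A →* Q := (MulEquiv.ulift.symm.toMonoidHom).comp σA
  have hker' : σA'.ker = Subgroup.center ↥A := by
    rw [← hσk]
    ext x
    simp [σA', MonoidHom.mem_ker, EmbeddingLike.map_eq_one_iff]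
  have hperfC : commutator C = ⊤ := by
    rw [commutator_def, ← Subgroup.map_top_of_surjective up.toMonoidHom up.surjective, ← Subgroup.map_commutator,
      ← commutator_def, commutator_cover]
  obtain ⟨φ, hφs, hφ⟩ := DoubleCover.exists_hom_of_closed π
    (MulEquiv.ulift.symm.surjective.comp (sigma_surjective.comp MulEquiv.ulift.surjective)) hperfC
    (fun E _ _ p hp hc hperf => by
      have hi := injective_of_closed H (MulEquiv.ulift.toMonoidHom.comp p)
        (MulEquiv.ulift.surjective.comp hp)
        (fun x hx => hc (MulEquiv.ulift.injective (by rw [map_one]; exact hx))) hperf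
      exact fun a b h => hi (congrArg MulEquiv.ulift h))
    σA' (MulEquiv.ulift.symm.surjective.comp (e0.surjective.comp (QuotientGroup.mk'_surjective _)))
    hker'.le (by rw [hperfA]; exact le_top)
  let ψ : ↥coverGrp →* ↥A := φ.comp up.toMonoidHom
  have hψs : Function.Surjective ψ := hφs.comp up.surjective
  have hcard : Nat.card ↥A = Nat.card ↥coverGrp := by
    rw [Subgroup.card_eq_card_quotient_mul_card_subgroup (Subgroup.center ↥A), hZ, Nat.card_congr e0.toEquiv,
      card_Ru, card_coverGrp]
  have hψb : Function.Bijective ψ :=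
    ((Nat.bijective_iff_surjective_and_card ψ).2 ⟨hψs, hcard.symm⟩)
  let ε : ↥coverGrp ≃* ↥A := MulEquiv.ofBijective ψ hψb
  -- the centre
  have hz : ((ε Invol.cz : ↥A) : G) = z := by
    have h1 : (ε Invol.cz : ↥A) ∈ Subgroup.center ↥A :=
      Subgroup.mem_center_iff.2 fun g => by
        obtain ⟨g, rfl⟩ := ε.surjective g
        rw [← map_mul, ← map_mul, Invol.cz_central]
    refine (hs.uniq _ (ε Invol.cz).2 (Subgroup.mem_centralizer_iff.2 fun g hg =>
      congrArg Subtype.val (Subgroup.mem_center_iff.1 h1 ⟨g, hg⟩))).resolve_left fun h => evK_neg_ne ?_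
    exact ε.injective ((Subtype.ext h : ε Invol.cz = 1).trans (map_one ε).symm)
  have hN : Subgroup.normalizer (A : Set G) ≤ A ⊔ Subgroup.centralizer (A : Set G) := by
    refine DoubleCover.normalizer_le_of_inner fun α => ?_
    have hone := Outer.card_out
    rw [Nat.card_eq_one_iff_unique] at hone
    obtain ⟨h, hh⟩ : e0.symm.trans (α.trans e0) ∈ Inn Cfsg.Spor.Ru :=
      (QuotientGroup.eq_one_iff _).1 (hone.1.elim _ _)
    refine ⟨e0.symm h, MulEquiv.ext fun x => e0.injective ?_⟩
    have hx := DFunLike.congr_fun hh (e0 x)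
    simp only [MulAut.conj_apply, MulEquiv.trans_apply, e0.symm_apply_apply] at hx
    rw [MulAut.conj_apply, map_mul, map_mul, map_inv, e0.apply_symm_apply, hx]
  -- the transported Sylow subgroup
  haveI : Fact (Nat.Prime 2) := ⟨Nat.prime_two⟩
  let P : Sylow 2 ↥A := Invol.sylow.mapSurjective (f := ε.toMonoidHom) ε.surjective
  have hP : (P : Subgroup ↥A) = (Invol.Ser 15).map ε.toMonoidHom := rfl
  have key : ∀ w : ↥coverGrp, (∀ a ∈ Invol.Ser 15, a * w = w * a) →
      (∃ a ∈ ⁅⁅Invol.Ser 15, Invol.Ser 15⁆, Invol.Ser 15⁆, a * a = w) → ¬ IsConj z ((ε w : ↥A) : G) := by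
    intro w hc hroot
    refine hs.not_isConj_of_series hN P (ε w).2 ?_ ?_ ?_
    · intro a ha
      obtain ⟨a', ha', rfl⟩ := Subgroup.mem_map.1 ha
      rw [hP, Subgroup.mem_map] at ha'
      obtain ⟨b, hb, rfl⟩ := ha'
      show ((ε b : ↥A) : G) * (ε w : ↥A) = (ε w : ↥A) * (ε b : ↥A)
      rw [← Subgroup.coe_mul, ← map_mul, hc b hb, map_mul, Subgroup.coe_mul]
    · obtain ⟨a, ha, haa⟩ := hroot
      refine ⟨ε a, ?_, ?_⟩
      · rw [hP, ← Subgroup.map_commutator, ← Subgroup.map_commutator]
        exact Subgroup.mem_map.2 ⟨a, ha, rfl⟩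
      · rw [← Subgroup.coe_mul, ← map_mul, haa]
    · intro a ha
      rw [hP, ← Subgroup.map_commutator, ← Subgroup.map_commutator, Subgroup.mem_map] at ha
      obtain ⟨b, hb, rfl⟩ := ha
      intro e
      refine Invol.no_sq_cz (Invol.lower_three hb) (ε.injective (Subtype.ext ?_))
      rw [map_mul, Subgroup.coe_mul, hz]
      exact e
  refine hs.normal_of_not_fused hO hN fun v hv ho hne hconj => ?_
  obtain ⟨x, hx⟩ := ε.surjective ⟨v, hv⟩
  have hx2 : x * x = 1 := ε.injective (Subtype.ext (by
    rw [map_mul, map_one, Subgroup.coe_mul, hx, Subgroup.coe_one, ← pow_two, ← ho, pow_orderOf_eq_one]))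
  have hval : ((ε x : ↥A) : G) = v := by rw [hx]
  rcases Invol.involution_cases hx2 with h | h | h | h
  · rw [h, map_one, Subgroup.coe_one] at hval
    rw [← hval, orderOf_one] at ho
    norm_num at ho
  · exact hne (by rw [← hval, h, hz])
  · refine key Invol.cu (fun a ha => (Invol.commutes_cu ha).1) (Invol.roots_exist 0 (by norm_num)) (hconj.trans ?_)
    have := (A.subtype.comp ε.toMonoidHom).map_isConj h
    exact (hval ▸ this : IsConj ((ε Invol.cu : ↥A) : G) v).symm
  · refine key Invol.cv (fun a ha => (Invol.commutes_cu ha).2) (Invol.roots_exist 1 (by norm_num)) (hconj.trans ?_)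
    have := (A.subtype.comp ε.toMonoidHom).map_isConj h
    exact (hval ▸ this : IsConj ((ε Invol.cv : ↥A) : G) v).symm

end CfsgLib.RuAut.Standard
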